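import Mathlib
import Cfsg.Prelude.Def_Solvable
import Cfsg.Agent.Lib.Helper7.Cores
import Cfsg.Agent.Lib.Helper7.Coprime
import Cfsg.Agent.Lib.Helper16.Solvable2
import Cfsg.Agent.Lib.Helper22.PPrimeCore

/-!
# S3819 design (helper17): shared definitions

`oq q X` is the internal `O_{q'}(X)` of a subgroup `X ≤ G` (as a subgroup of `G`), `oqq q X` the
internal `O_q(X)`.
-/

set_option autoImplicit false

namespace Cfsg.Agent.Helper17.SG

variable {G : Type*} [Group G]

/-- internal `O_{q'}(X)` -/
def oq (q : ℕ) (X : Subgroup G) : Subgroup G := (Cfsg.pPrimeCore q ↥X).map X.subtype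

/-- internal `O_q(X)` -/
def oqq (q : ℕ) (X : Subgroup G) : Subgroup G := (Cfsg.pCore q ↥X).map X.subtype

theorem oq_def (q : ℕ) (X : Subgroup G) : oq q X = (Cfsg.pPrimeCore q ↥X).map X.subtype := rfl

theorem oqq_def (q : ℕ) (X : Subgroup G) : oqq q X = (Cfsg.pCore q ↥X).map X.subtype := rfl

instance oq_normal (q : ℕ) (X : Subgroup G) [X.Normal] : (oq q X).Normal := by
  have : (Cfsg.pPrimeCore q ↥X).Characteristic := Cfsg.Agent.Helper7.pPrimeCore_characteristic q
  exact ConjAct.normal_of_characteristic_of_normal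

instance oqq_normal (q : ℕ) (X : Subgroup G) [X.Normal] : (oqq q X).Normal := by
  have : (Cfsg.pCore q ↥X).Characteristic := Cfsg.Agent.Helper7.pCore_characteristic q
  exact ConjAct.normal_of_characteristic_of_normal

end Cfsg.Agent.Helper17.SG
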