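import Mathlib
import Cfsg.Agent.Lib.SG.SGDefs

/-! S3819 piece SG-COMMNORMAL (helper17 design; see plans/S3819_plan.md): `⁅H, P⁆` is normal when `H` is normal
and `H ⊔ P = ⊤` (helper23). -/

set_option autoImplicit false

namespace Cfsg.Agent.Helper17.SG

variable {G : Type*} [Group G]

/-- conjugation by `g` maps `⁅H, P⁆` into itself as soon as it does so on the generators -/
theorem sg_commnormal_conj_mem (H P : Subgroup G) (g : G)
    (hg : ∀ h ∈ H, ∀ x ∈ P, g * (h * x * h⁻¹ * x⁻¹) * g⁻¹ ∈ ⁅H, P⁆) :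
    ∀ n ∈ ⁅H, P⁆, g * n * g⁻¹ ∈ ⁅H, P⁆ := by
  have h1 : ⁅H, P⁆ ≤ (⁅H, P⁆).comap (MulAut.conj g).toMonoidHom := by
    rw [Subgroup.commutator_le]
    intro h hh x hx
    show g * (h * x * h⁻¹ * x⁻¹) * g⁻¹ ∈ ⁅H, P⁆
    exact hg h hh x hx
  intro n hn
  exact h1 hn

/-- an explicit commutator lies in the commutator subgroup -/
theorem sg_commnormal_mem (H P : Subgroup G) {a x : G} (ha : a ∈ H) (hx : x ∈ P) :
    a * x * a⁻¹ * x⁻¹ ∈ ⁅H, P⁆ :=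
  Subgroup.commutator_mem_commutator ha hx

theorem commutator_normal_of_sup_eq_top (H P : Subgroup G) [H.Normal] (h : H ⊔ P = ⊤) :
    (⁅H, P⁆).Normal := by
  -- elements of `H` conjugate `⁅H, P⁆` into itself
  have hH : ∀ g ∈ H, ∀ n ∈ ⁅H, P⁆, g * n * g⁻¹ ∈ ⁅H, P⁆ := by
    intro g hg
    apply sg_commnormal_conj_mem
    intro a ha x hx
    have e : g * (a * x * a⁻¹ * x⁻¹) * g⁻¹ =
        ((g * a) * x * (g * a)⁻¹ * x⁻¹) * (g * x * g⁻¹ * x⁻¹)⁻¹ := by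
      group
    rw [e]
    exact Subgroup.mul_mem _ (sg_commnormal_mem H P (H.mul_mem hg ha) hx)
      (Subgroup.inv_mem _ (sg_commnormal_mem H P hg hx))
  -- elements of `P` conjugate `⁅H, P⁆` into itself
  have hP : ∀ g ∈ P, ∀ n ∈ ⁅H, P⁆, g * n * g⁻¹ ∈ ⁅H, P⁆ := by
    intro g hg
    apply sg_commnormal_conj_mem
    intro a ha x hx
    have e : g * (a * x * a⁻¹ * x⁻¹) * g⁻¹ =
        (g * a * g⁻¹) * (g * x * g⁻¹) * (g * a * g⁻¹)⁻¹ * (g * x * g⁻¹)⁻¹ := by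
      group
    rw [e]
    exact sg_commnormal_mem H P (‹H.Normal›.conj_mem a ha g)
      (P.mul_mem (P.mul_mem hg hx) (P.inv_mem hg))
  -- hence all of `H ⊔ P = ⊤` does
  have hall : ∀ g ∈ H ⊔ P, ∀ n ∈ ⁅H, P⁆, g * n * g⁻¹ ∈ ⁅H, P⁆ := by
    intro g hg n hn
    obtain ⟨a, ha, b, hb, hab⟩ := Subgroup.mem_sup_of_normal_left.mp hg
    rw [← hab]
    have e : a * b * n * (a * b)⁻¹ = a * (b * n * b⁻¹) * a⁻¹ := by group
    rw [e]
    exact hH a ha _ (hP b hb n hn)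
  refine ⟨fun n hn g => ?_⟩
  exact hall g (by rw [h]; exact Subgroup.mem_top g) n hn

end Cfsg.Agent.Helper17.SG
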