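import Mathlib
import Cfsg.Agent.Lib.SG.SGDefs

/-! S3819 piece SG-CARDMAP (helper17 design; see plans/S3819_plan.md).  Proved by helper28. -/

set_option autoImplicit false

namespace Cfsg.Agent.Helper17.SG

variable {G : Type*} [Group G]

theorem card_map_coprime [Finite G] {G' : Type*} [Group G'] (f : G →* G') (q : ℕ)
    (A : Subgroup G) (hA : (Nat.card A).Coprime q) : (Nat.card (A.map f)).Coprime q :=
  Nat.Coprime.coprime_dvd_left (Subgroup.card_map_dvd A f) hA

end Cfsg.Agent.Helper17.SG
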