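import Mathlib
import Cfsg.Agent.Lib.SG.SGDefs

/-! S3819 piece SG-COPRIMEACT (helper17 design; see plans/S3819_plan.md).  Proved by helper15. -/

set_option autoImplicit false

namespace Cfsg.Agent.Helper17.SG

open scoped commutatorElement

variable {G : Type*} [Group G]

/-- `P` normalizes `⁅H, P⁆` when `H` is normal -/
theorem sg_coprimeact_conj_mem (H P : Subgroup G) [H.Normal] (x : G) (hx : x ∈ P) (k : G)
    (hk : k ∈ ⁅H, P⁆) : x * k * x⁻¹ ∈ ⁅H, P⁆ := by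
  have h1 : (⁅H, P⁆).map (MulAut.conj x).toMonoidHom = ⁅H, P⁆ := by
    rw [Subgroup.map_commutator]
    have hH : H.map (MulAut.conj x).toMonoidHom = H := by
      apply le_antisymm
      · rintro _ ⟨a, ha, rfl⟩
        simpa using ‹H.Normal›.conj_mem a ha x
      · intro a ha
        refine ⟨x⁻¹ * a * x, ?_, ?_⟩
        · have := ‹H.Normal›.conj_mem a ha x⁻¹
          simpa using this
        · simp [mul_assoc]
    have hPm : P.map (MulAut.conj x).toMonoidHom = P := by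
      apply le_antisymm
      · rintro _ ⟨a, ha, rfl⟩
        simpa using P.mul_mem (P.mul_mem hx ha) (P.inv_mem hx)
      · intro a ha
        refine ⟨x⁻¹ * a * x, P.mul_mem (P.mul_mem (P.inv_mem hx) ha) hx, ?_⟩
        simp [mul_assoc]
    rw [hH, hPm]
  have : x * k * x⁻¹ ∈ (⁅H, P⁆).map (MulAut.conj x).toMonoidHom :=
    ⟨k, hk, by simp⟩
  rwa [h1] at this

theorem exists_mul_of_coprime [Finite G] (p : ℕ) [Fact p.Prime] (H P : Subgroup G) [H.Normal]
    (hP : IsPGroup p P) (hH : (Nat.card H).Coprime p) :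
    ∀ h ∈ H, ∃ c ∈ H ⊓ Subgroup.centralizer (P : Set G), ∃ k ∈ ⁅H, P⁆, h = c * k := by
  intro h hh
  -- the twisted conjugation action of `P` on `K = ⁅H, P⁆` (transport of conjugation on `h K`)
  have hmem : ∀ (x : ↥P) (k : ↥(⁅H, P⁆)), h⁻¹ * (x : G) * h * (k : G) * (x : G)⁻¹ ∈ ⁅H, P⁆ := by
    intro x k
    have e : h⁻¹ * (x : G) * h * (k : G) * (x : G)⁻¹ =
        ⁅h⁻¹, (x : G)⁆ * ((x : G) * (k : G) * (x : G)⁻¹) := by
      rw [commutatorElement_def]; group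
    rw [e]
    exact (⁅H, P⁆).mul_mem (Subgroup.commutator_mem_commutator (H.inv_mem hh) x.2)
      (sg_coprimeact_conj_mem H P x x.2 k k.2)
  let act : MulAction ↥P ↥(⁅H, P⁆) :=
    { smul := fun x k => ⟨h⁻¹ * (x : G) * h * (k : G) * (x : G)⁻¹, hmem x k⟩
      one_smul := by
        intro k
        apply Subtype.ext
        show h⁻¹ * ((1 : ↥P) : G) * h * (k : G) * ((1 : ↥P) : G)⁻¹ = (k : G)
        simp
      mul_smul := by
        intro x y k
        apply Subtype.ext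
        show h⁻¹ * ((x * y : ↥P) : G) * h * (k : G) * ((x * y : ↥P) : G)⁻¹ =
          h⁻¹ * (x : G) * h * (h⁻¹ * (y : G) * h * (k : G) * (y : G)⁻¹) * (x : G)⁻¹
        rw [Subgroup.coe_mul]
        group }
  have hsmul : ∀ (x : ↥P) (k : ↥(⁅H, P⁆)),
      ((x • k : ↥(⁅H, P⁆)) : G) = h⁻¹ * (x : G) * h * (k : G) * (x : G)⁻¹ := fun _ _ => rfl
  have hKH : ⁅H, P⁆ ≤ H := Subgroup.commutator_le_left H P
  have hcard : ¬ p ∣ Nat.card ↥(⁅H, P⁆) := by
    intro hdvd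
    have h1 : Nat.card ↥(⁅H, P⁆) ∣ Nat.card ↥H := Subgroup.card_dvd_of_le hKH
    have h2 : p ∣ Nat.card ↥H := dvd_trans hdvd h1
    have h3 : p ∣ Nat.gcd (Nat.card ↥H) p := Nat.dvd_gcd h2 (dvd_refl p)
    rw [Nat.Coprime] at hH
    rw [hH] at h3
    exact (Fact.out : p.Prime).one_lt.ne' (Nat.dvd_one.1 h3)
  obtain ⟨k0, hk0⟩ := hP.nonempty_fixed_point_of_prime_not_dvd_card (↥(⁅H, P⁆)) hcard
  rw [MulAction.mem_fixedPoints] at hk0
  refine ⟨h * (k0 : G), ⟨H.mul_mem hh (hKH k0.2), ?_⟩, (k0 : G)⁻¹, (⁅H, P⁆).inv_mem k0.2, by group⟩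
  show h * (k0 : G) ∈ Subgroup.centralizer (P : Set G)
  rw [Subgroup.mem_centralizer_iff]
  intro x hx
  have := congrArg (fun k : ↥(⁅H, P⁆) => (k : G)) (hk0 ⟨x, hx⟩)
  simp only [hsmul] at this
  -- this : h⁻¹ * x * h * k0 * x⁻¹ = k0
  have e : x * (h * (k0 : G)) = h * (h⁻¹ * x * h * (k0 : G) * x⁻¹) * x := by group
  rw [e, this]

end Cfsg.Agent.Helper17.SG
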