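import Mathlib
import Cfsg.Agent.Lib.SG.SGDefs

/-! S3819 piece SG-FIN1 (helper17 design; see plans/S3819_plan.md).  Proved by helper15. -/

set_option autoImplicit false

namespace Cfsg.Agent.Helper17.SG

variable {G : Type*} [Group G]

/-- if a subgroup `X` conjugates `L` into itself elementwise, then `X ≤ normalizer L` -/
theorem sg_fin1_le_normalizer (X L : Subgroup G)
    (h : ∀ g ∈ X, ∀ n ∈ L, g * n * g⁻¹ ∈ L) : X ≤ Subgroup.normalizer (L : Set G) := by
  intro g hg
  rw [Subgroup.mem_normalizer_iff]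
  intro n
  constructor
  · intro hn
    exact h g hg n hn
  · intro hn
    have := h g⁻¹ (X.inv_mem hg) _ hn
    have e : g⁻¹ * (g * n * g⁻¹) * g⁻¹⁻¹ = n := by group
    rw [e] at this
    exact this

/-- conjugation by `g` maps the closure of `S` into `L` as soon as it maps `S` into `L` -/
theorem sg_fin1_conj_closure (S : Set G) (L : Subgroup G) (g : G)
    (h : ∀ s ∈ S, g * s * g⁻¹ ∈ L) : ∀ n ∈ Subgroup.closure S, g * n * g⁻¹ ∈ L := by
  intro n hn
  induction hn using Subgroup.closure_induction with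
  | mem x hx => exact h x hx
  | one => simp
  | mul x y _ _ hx hy =>
    have e : g * (x * y) * g⁻¹ = (g * x * g⁻¹) * (g * y * g⁻¹) := by group
    rw [e]
    exact L.mul_mem hx hy
  | inv x _ hx =>
    have e : g * x⁻¹ * g⁻¹ = (g * x * g⁻¹)⁻¹ := by group
    rw [e]
    exact L.inv_mem hx

theorem exists_normal_le (K C P D M : Subgroup G) [K.Normal] (htop : K ⊔ C ⊔ P = ⊤)
    (hDM : D ≤ M) (hMC : M ≤ C) (hCM : C ≤ Subgroup.normalizer (M : Set G))
    (hPC : C ≤ Subgroup.centralizer (P : Set G)) (hKD : D ≤ Subgroup.centralizer (K : Set G)) :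
    ∃ L : Subgroup G, L.Normal ∧ D ≤ L ∧ L ≤ M := by
  set S : Set G := {x | ∃ c ∈ C, ∃ d ∈ D, x = c * d * c⁻¹} with hS
  set L : Subgroup G := Subgroup.closure S with hL
  have hSL : S ⊆ (L : Set G) := Subgroup.subset_closure
  have hDL : D ≤ L := by
    intro d hd
    apply hSL
    exact ⟨1, C.one_mem, d, hd, by simp⟩
  have hLM : L ≤ M := by
    rw [hL, Subgroup.closure_le]
    rintro x ⟨c, hc, d, hd, rfl⟩
    have hcn := hCM hc
    rw [Subgroup.mem_normalizer_iff] at hcn
    exact (hcn d).1 (hDM hd)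
  -- `C` normalizes `L`
  have hC : C ≤ Subgroup.normalizer (L : Set G) := by
    apply sg_fin1_le_normalizer
    intro g hg
    apply sg_fin1_conj_closure
    rintro x ⟨c, hc, d, hd, rfl⟩
    apply hSL
    refine ⟨g * c, C.mul_mem hg hc, d, hd, ?_⟩
    group
  -- `P` normalizes (centralizes) `L`
  have hP : P ≤ Subgroup.normalizer (L : Set G) := by
    apply sg_fin1_le_normalizer
    intro g hg n hn
    have hnc : n ∈ Subgroup.centralizer (P : Set G) := hPC (hMC (hLM hn))
    rw [Subgroup.mem_centralizer_iff] at hnc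
    have e : g * n * g⁻¹ = n := by
      have := hnc g hg
      rw [this]
      group
    rw [e]
    exact hn
  -- `K` normalizes (centralizes) `L`
  have hK : K ≤ Subgroup.normalizer (L : Set G) := by
    apply sg_fin1_le_normalizer
    intro g hg
    apply sg_fin1_conj_closure
    rintro x ⟨c, hc, d, hd, rfl⟩
    apply hSL
    refine ⟨c, hc, d, hd, ?_⟩
    have hk' : c⁻¹ * g * c ∈ K := by
      have := ‹K.Normal›.conj_mem g hg c⁻¹
      simpa using this
    have hdc := hKD hd
    rw [Subgroup.mem_centralizer_iff] at hdc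
    have h1 : (c⁻¹ * g * c) * d = d * (c⁻¹ * g * c) := hdc _ hk'
    have e : g * (c * d * c⁻¹) * g⁻¹ = c * ((c⁻¹ * g * c) * d * (c⁻¹ * g * c)⁻¹) * c⁻¹ := by group
    rw [e, h1]
    group
  have hN : Subgroup.normalizer (L : Set G) = ⊤ := by
    apply top_le_iff.1
    rw [← htop]
    exact sup_le (sup_le hK hC) hP
  exact ⟨L, Subgroup.normalizer_eq_top_iff.1 hN, hDL, hLM⟩

end Cfsg.Agent.Helper17.SG
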