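import Mathlib
import Cfsg.Agent.Lib.SG.SGDefs

/-! S3819 piece SG-INFBOT (helper17 design; see plans/S3819_plan.md).  Proved by helper25. -/

set_option autoImplicit false

namespace Cfsg.Agent.Helper17.SG

variable {G : Type*} [Group G]

theorem inf_eq_bot_of_coprime_of_isPGroup [Finite G] (q : ℕ) [Fact q.Prime] (A B : Subgroup G)
    (hA : (Nat.card A).Coprime q) (hB : IsPGroup q B) : A ⊓ B = ⊥ := by
  rw [eq_bot_iff]
  intro x hx
  rw [Subgroup.mem_bot]
  obtain ⟨hxA, hxB⟩ := hx
  -- order of x divides |A|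
  have h1 : orderOf x ∣ Nat.card A := by
    have := orderOf_dvd_natCard (⟨x, hxA⟩ : A)
    rwa [Subgroup.orderOf_mk] at this
  -- order of x is a power of q
  obtain ⟨k, hk⟩ := hB ⟨x, hxB⟩
  have hk' : x ^ q ^ k = 1 := by
    have := congrArg Subtype.val hk
    simpa using this
  have h2 : orderOf x ∣ q ^ k := orderOf_dvd_of_pow_eq_one hk'
  have hcop : (Nat.card A).Coprime (q ^ k) := Nat.Coprime.pow_right k hA
  have h3 : orderOf x ∣ 1 := by
    have := Nat.dvd_gcd h1 h2
    rwa [hcop] at this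
  exact orderOf_eq_one_iff.mp (Nat.dvd_one.mp h3)

end Cfsg.Agent.Helper17.SG
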