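import Mathlib
import Cfsg.Agent.Lib.SG.SGDefs

/-! S3819 piece SG-OQQBASIC (helper17 design; see plans/S3819_plan.md). -/

set_option autoImplicit false

namespace Cfsg.Agent.Helper17.SG

variable {G : Type*} [Group G]

theorem oqq_le (q : ℕ) (X : Subgroup G) : oqq q X ≤ X := by
  rw [oqq_def]
  exact Subgroup.map_subtype_le _

theorem sg_oqqbasic_pCore_isPGroup (q : ℕ) (K : Type*) [Group K] : IsPGroup q (Cfsg.pCore q K) :=
  Sylow.sSup_of_normal _ (fun _ h => h.2) (fun _ h => h.1)

theorem isPGroup_oqq (q : ℕ) (X : Subgroup G) : IsPGroup q (oqq q X) := by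
  rw [oqq_def]
  exact (sg_oqqbasic_pCore_isPGroup q ↥X).map X.subtype

end Cfsg.Agent.Helper17.SG
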