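import Mathlib
import Cfsg.Agent.Lib.SG.SGDefs
import Cfsg.Agent.Lib.SG.SGOQQBASIC
import Cfsg.Agent.Lib.SG.SGINFBOT

/-! S3819 piece SG-KL (helper17 design; see plans/S3819_plan.md). -/

set_option autoImplicit false

namespace Cfsg.Agent.Helper17.SG

variable {G : Type*} [Group G]

theorem sg_kl_le_normalizer (Q A : Subgroup G) [hQ : Q.Normal] :
    A ≤ Subgroup.normalizer (Q : Set G) := by
  intro g _
  rw [Subgroup.mem_normalizer_iff]
  intro n
  constructor
  · intro hn
    exact hQ.conj_mem n hn g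
  · intro hn
    have := hQ.conj_mem _ hn g⁻¹
    simpa [mul_assoc] using this

theorem le_centralizer_oqq [Finite G] (q : ℕ) [Fact q.Prime] (K : Subgroup G) [K.Normal]
    (z : G) (hz : ∃ k : ℕ, orderOf z = q ^ k) (Y : Subgroup G)
    (hYq : (Nat.card Y).Coprime q) (hYz : Y ≤ Subgroup.centralizer ({z} : Set G))
    (hS : ∀ x ∈ oqq q K, x ∈ Subgroup.centralizer ({z} : Set G) → ∀ y ∈ Y, x * y = y * x) :
    Y ≤ Subgroup.centralizer (oqq q K : Set G) := by
  have hQp : IsPGroup q ↥(oqq q K) := isPGroup_oqq q K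
  have hBp : IsPGroup q ↥(Subgroup.zpowers z) := by
    obtain ⟨k, hk⟩ := hz
    apply IsPGroup.of_card (n := k)
    rw [Nat.card_zpowers, hk]
  have hAQ : Y ≤ Subgroup.normalizer (oqq q K : Set G) := sg_kl_le_normalizer _ _
  have hBQ : Subgroup.zpowers z ≤ Subgroup.normalizer (oqq q K : Set G) := sg_kl_le_normalizer _ _
  have hzY : z ∈ Subgroup.centralizer (Y : Set G) := by
    rw [Subgroup.mem_centralizer_iff]
    intro y hy
    have := (Subgroup.mem_centralizer_iff.1 (hYz hy)) z (Set.mem_singleton z)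
    exact this.symm
  have hAB : ⁅Y, Subgroup.zpowers z⁆ = ⊥ := by
    rw [Subgroup.commutator_comm]
    exact Subgroup.commutator_eq_bot_iff_le_centralizer.mpr (Subgroup.zpowers_le.mpr hzY)
  have hcop : (Nat.card Y).Coprime (Nat.card (oqq q K)) := by
    obtain ⟨n, hn⟩ := IsPGroup.iff_card.mp hQp
    rw [hn]
    exact Nat.Coprime.pow_right n hYq
  have hnil : Group.IsNilpotent ↥(oqq q K ⊔ Subgroup.zpowers z) :=
    (hQp.to_sup_of_normal_left' hBp hBQ).isNilpotent
  have hC : oqq q K ⊓ Subgroup.centralizer ((Subgroup.zpowers z : Subgroup G) : Set G) ≤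
      Subgroup.centralizer (Y : Set G) := by
    rintro x ⟨hxQ, hxz⟩
    have hxz' : x ∈ Subgroup.centralizer ({z} : Set G) := by
      rw [Subgroup.mem_centralizer_iff]
      intro h hh
      rw [Set.mem_singleton_iff] at hh
      rw [hh]
      exact (Subgroup.mem_centralizer_iff.1 hxz) z (Subgroup.mem_zpowers z)
    rw [Subgroup.mem_centralizer_iff]
    intro y hy
    exact (hS x hxQ hxz' y hy).symm
  have key := Cfsg.Agent.Helper7.thompson_AxB (oqq q K) Y (Subgroup.zpowers z) hAQ hBQ hAB hcop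
    hnil hC
  exact Subgroup.le_centralizer_iff.mp key

end Cfsg.Agent.Helper17.SG
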