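import Mathlib
import Cfsg.Agent.Lib.SG.SGDefs
import Cfsg.Agent.Lib.SG.SGOQQBASIC

/-! S3819 piece SG-OQQCENT (helper17 design; see plans/S3819_plan.md).  Proved by helper7:
Hall–Higman 1.2.3 (`Helper16.centralizer_pCore_le_of_isSolvable`) inside `↥X`, transferred along
`X.subtype`. -/

set_option autoImplicit false

namespace Cfsg.Agent.Helper17.SG

variable {G : Type*} [Group G]

theorem centralizer_oqq_inf_le [Finite G] (q : ℕ) [Fact q.Prime] (X : Subgroup G)
    (hsol : Group.IsSolvable ↥X) (h : oq q X = ⊥) :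
    Subgroup.centralizer (oqq q X : Set G) ⊓ X ≤ oqq q X := by
  have hbot : Cfsg.pPrimeCore q ↥X = ⊥ := by
    rw [oq_def] at h
    exact (Subgroup.map_eq_bot_iff_of_injective _ X.subtype_injective).1 h
  have hHH := Cfsg.Agent.Helper16.centralizer_pCore_le_of_isSolvable q hsol hbot
  intro g hg
  obtain ⟨hgC, hgX⟩ := Subgroup.mem_inf.1 hg
  rw [oqq_def]
  refine ⟨⟨g, hgX⟩, ?_, rfl⟩
  apply hHH
  rw [Subgroup.mem_centralizer_iff]
  intro y hy
  rw [Subgroup.mem_centralizer_iff] at hgC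
  have hyq : (y : G) ∈ (oqq q X : Set G) := by
    rw [oqq_def]
    exact ⟨y, hy, rfl⟩
  exact Subtype.ext (hgC _ hyq)

end Cfsg.Agent.Helper17.SG
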