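import Mathlib
import Cfsg.Agent.Lib.SG.SGDefs
import Cfsg.Agent.Lib.SG.SGOQQCENT
import Cfsg.Agent.Lib.SG.SGOQQBASIC
import Cfsg.Agent.Lib.SG.SGINFBOT

/-! S3819 piece SG-KL2 (helper17 design; see plans/S3819_plan.md). -/

set_option autoImplicit false

namespace Cfsg.Agent.Helper17.SG

variable {G : Type*} [Group G]

theorem eq_bot_of_le_centralizer_oqq [Finite G] (q : ℕ) [Fact q.Prime] (K : Subgroup G)
    (hsol : Group.IsSolvable ↥K) (hK : oq q K = ⊥) (W : Subgroup G)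
    (hWq : (Nat.card W).Coprime q) (hWK : W ≤ K)
    (hW : W ≤ Subgroup.centralizer (oqq q K : Set G)) : W = ⊥ := by
  have h1 : W ≤ oqq q K := le_trans (le_inf hW hWK) (centralizer_oqq_inf_le q K hsol hK)
  have h2 := inf_eq_bot_of_coprime_of_isPGroup q W (oqq q K) hWq (isPGroup_oqq q K)
  rw [inf_eq_left.2 h1] at h2
  exact h2

end Cfsg.Agent.Helper17.SG
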