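import Mathlib
import Cfsg.Agent.Lib.SG.SGDefs

/-! S3819 piece SG-LEOQ (helper17 design; see plans/S3819_plan.md).  Done by helper4. -/

set_option autoImplicit false

namespace Cfsg.Agent.Helper17.SG

variable {G : Type*} [Group G]

theorem le_oq [Finite G] (q : ℕ) (N X : Subgroup G) (hNX : N ≤ X)
    (hn : X ≤ Subgroup.normalizer (N : Set G)) (hc : (Nat.card N).Coprime q) :
    N ≤ oq q X := by
  have hnorm : (N.subgroupOf X).Normal := by
    constructor
    intro n hn' g
    rw [Subgroup.mem_subgroupOf] at hn' ⊢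
    have hg := hn g.2
    rw [Subgroup.mem_normalizer_iff] at hg
    have := (hg (n : G)).1 hn'
    simpa using this
  have hcard : Nat.card ↥(N.subgroupOf X) = Nat.card ↥N :=
    Nat.card_congr (Subgroup.subgroupOfEquivOfLe hNX).toEquiv
  have hc' : (Nat.card ↥(N.subgroupOf X)).Coprime q := by
    rw [hcard]
    exact hc
  have hle := Cfsg.Agent.Helper22.le_pPrimeCore q (N.subgroupOf X) hnorm hc'
  intro x hx
  rw [oq_def]
  refine ⟨⟨x, hNX hx⟩, ?_, rfl⟩
  apply hle
  rw [Subgroup.mem_subgroupOf]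
  exact hx

end Cfsg.Agent.Helper17.SG
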