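import Mathlib
import Cfsg.Agent.Lib.SG.SGDefs

/-! S3819 piece SG-OQCARD (helper17 design; see plans/S3819_plan.md); proved by helper27. -/

set_option autoImplicit false

namespace Cfsg.Agent.Helper17.SG

variable {G : Type*} [Group G]

theorem card_oq_coprime [Finite G] (q : ℕ) (X : Subgroup G) :
    (Nat.card (oq q X)).Coprime q := by
  rw [oq_def, Subgroup.card_map_of_injective X.subtype_injective]
  exact Cfsg.Agent.Helper22.card_pPrimeCore_coprime q

end Cfsg.Agent.Helper17.SG
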