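import Mathlib
import Cfsg.Agent.Lib.SG.SGDefs

/-! S3819 piece SG-OQLE (helper17 design; see plans/S3819_plan.md); proved by helper27. -/

set_option autoImplicit false

namespace Cfsg.Agent.Helper17.SG

variable {G : Type*} [Group G]

theorem oq_le (q : ℕ) (X : Subgroup G) : oq q X ≤ X := by
  rw [oq_def]
  exact Subgroup.map_subtype_le _

end Cfsg.Agent.Helper17.SG
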