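import Mathlib
import Cfsg.Agent.Lib.SG.SGDefs

/-! S3819 piece SG-OQNORM (helper17 design; see plans/S3819_plan.md).  Proved by helper5:
conjugation by an element of `N_G(X)` is an automorphism of `↥X`, and `O_{q'}(↥X)` is
characteristic. -/

set_option autoImplicit false

namespace Cfsg.Agent.Helper17.SG

variable {G : Type*} [Group G]

/-- conjugation by an element normalizing `X`, as an automorphism of `↥X` -/
def sg_oqnorm_conj (X : Subgroup G) (g : G)
    (hg : ∀ h : G, h ∈ X ↔ g * h * g⁻¹ ∈ X) : ↥X ≃* ↥X where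
  toFun x := ⟨g * x * g⁻¹, (hg x).1 x.2⟩
  invFun x := ⟨g⁻¹ * x * g, (hg (g⁻¹ * x * g)).2 (by
    have : g * (g⁻¹ * (x : G) * g) * g⁻¹ = x := by group
    rw [this]; exact x.2)⟩
  left_inv x := by
    apply Subtype.ext
    show g⁻¹ * (g * (x : G) * g⁻¹) * g = x
    group
  right_inv x := by
    apply Subtype.ext
    show g * (g⁻¹ * (x : G) * g) * g⁻¹ = x
    group
  map_mul' x y := by
    apply Subtype.ext
    show g * ((x : G) * (y : G)) * g⁻¹ = g * (x : G) * g⁻¹ * (g * (y : G) * g⁻¹)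
    group

theorem sg_oqnorm_char (q : ℕ) (X : Subgroup G) (ψ : ↥X ≃* ↥X) (y : ↥X)
    (hy : y ∈ Cfsg.pPrimeCore q ↥X) : ψ y ∈ Cfsg.pPrimeCore q ↥X := by
  have hchar : (Cfsg.pPrimeCore q ↥X).Characteristic :=
    Cfsg.Agent.Helper7.pPrimeCore_characteristic q
  have h := hchar.fixed ψ
  have : y ∈ (Cfsg.pPrimeCore q ↥X).comap ψ.toMonoidHom := by rw [h]; exact hy
  exact this

theorem normalizer_le_normalizer_oq (q : ℕ) (X : Subgroup G) :
    Subgroup.normalizer (X : Set G) ≤ Subgroup.normalizer (oq q X : Set G) := by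
  intro g hg
  rw [Subgroup.mem_normalizer_iff] at hg ⊢
  have hg' : ∀ h : G, h ∈ X ↔ g * h * g⁻¹ ∈ X := fun h => hg h
  intro h
  constructor
  · rintro ⟨y, hy, rfl⟩
    exact ⟨sg_oqnorm_conj X g hg' y, sg_oqnorm_char q X _ y hy, rfl⟩
  · rintro ⟨y, hy, hyeq⟩
    refine ⟨(sg_oqnorm_conj X g hg').symm y, sg_oqnorm_char q X _ y hy, ?_⟩
    show g⁻¹ * (y : G) * g = h
    have : (y : G) = g * h * g⁻¹ := hyeq
    rw [this]
    group

end Cfsg.Agent.Helper17.SG
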