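import Mathlib
import Cfsg.Agent.Lib.SG.SGDefs

/-! S3819 piece SG-ORDMAP (helper17 design; see plans/S3819_plan.md). Proof by helper19. -/

set_option autoImplicit false

namespace Cfsg.Agent.Helper17.SG

variable {G : Type*} [Group G]

theorem orderOf_map_pow {G' : Type*} [Group G'] (f : G →* G') (q : ℕ) [Fact q.Prime] (z : G)
    (hz : ∃ k : ℕ, orderOf z = q ^ k) : ∃ k : ℕ, orderOf (f z) = q ^ k := by
  obtain ⟨k, hk⟩ := hz
  have hq : q.Prime := Fact.out
  have hdvd : orderOf (f z) ∣ q ^ k := hk ▸ orderOf_map_dvd f z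
  obtain ⟨j, _, hj⟩ := (Nat.dvd_prime_pow hq).1 hdvd
  exact ⟨j, hj⟩

end Cfsg.Agent.Helper17.SG
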