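import Mathlib
import Cfsg.Agent.Lib.SG.SGDefs
import Cfsg.Agent.Lib.SG.SGOQQCENT
import Cfsg.Agent.Lib.SG.SGOQQBASIC

/-! S3819 piece SG-P2 (helper17 design; see plans/S3819_plan.md); proved by helper11. -/

set_option autoImplicit false

namespace Cfsg.Agent.Helper17.SG

variable {G : Type*} [Group G]

theorem le_centralizer_of_le_centralizer_oqq [Finite G] (q : ℕ) [Fact q.Prime]
    (K : Subgroup G) [K.Normal] (hsol : Group.IsSolvable ↥K) (hK : oq q K = ⊥)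
    (D : Subgroup G) (hDq : (Nat.card D).Coprime q)
    (hD : D ≤ Subgroup.centralizer (oqq q K : Set G)) :
    D ≤ Subgroup.centralizer (K : Set G) := by
  intro d hd
  rw [Subgroup.mem_centralizer_iff]
  intro k hk
  have hk' : k ∈ K := hk
  -- `d` commutes with every element of `Q = oqq q K`
  have hdQ : ∀ x ∈ oqq q K, x * d = d * x := fun x hx =>
    (Subgroup.mem_centralizer_iff.1 (hD hd)) x hx
  have hQn : (oqq q K).Normal := inferInstance
  -- `c = k⁻¹ (d k d⁻¹) ∈ K`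
  have hdk : d * k * d⁻¹ ∈ K := ‹K.Normal›.conj_mem k hk' d
  have hcK : k⁻¹ * (d * k * d⁻¹) ∈ K := K.mul_mem (K.inv_mem hk') hdk
  -- `c` centralizes `Q`
  have hcC : k⁻¹ * (d * k * d⁻¹) ∈ Subgroup.centralizer (oqq q K : Set G) := by
    rw [Subgroup.mem_centralizer_iff]
    intro x hx
    have hx' : x ∈ oqq q K := hx
    have h1 : k * x * k⁻¹ ∈ oqq q K := hQn.conj_mem x hx' k
    have h2 := hdQ x hx'
    have h3 := hdQ _ h1
    -- d k d⁻¹ x (d k d⁻¹)⁻¹ = k x k⁻¹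
    have h4 : d⁻¹ * x * d = x := by
      rw [mul_assoc, h2, ← mul_assoc, inv_mul_cancel, one_mul]
    have h5 : d * (k * x * k⁻¹) * d⁻¹ = k * x * k⁻¹ := by
      rw [← h3, mul_assoc, mul_inv_cancel, mul_one]
    have h6 : (d * k * d⁻¹) * x * (d * k * d⁻¹)⁻¹ = k * x * k⁻¹ := by
      calc (d * k * d⁻¹) * x * (d * k * d⁻¹)⁻¹
          = d * (k * (d⁻¹ * x * d) * k⁻¹) * d⁻¹ := by group
        _ = d * (k * x * k⁻¹) * d⁻¹ := by rw [h4]
        _ = k * x * k⁻¹ := h5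
    -- x * c = c * x
    have h7 : (d * k * d⁻¹) * x = k * x * k⁻¹ * (d * k * d⁻¹) := by
      rw [← h6]; group
    calc x * (k⁻¹ * (d * k * d⁻¹))
        = k⁻¹ * (k * x * k⁻¹ * (d * k * d⁻¹)) := by group
      _ = k⁻¹ * ((d * k * d⁻¹) * x) := by rw [h7]
      _ = k⁻¹ * (d * k * d⁻¹) * x := by group
  have hcQ : k⁻¹ * (d * k * d⁻¹) ∈ oqq q K :=
    centralizer_oqq_inf_le q K hsol hK ⟨hcC, hcK⟩
  -- `d` centralizes `c`
  have hza : d * (k⁻¹ * (d * k * d⁻¹)) * d⁻¹ = k⁻¹ * (d * k * d⁻¹) := by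
    have := hdQ _ hcQ
    rw [← this, mul_assoc, mul_inv_cancel, mul_one]
  -- coprimality of the orders
  have hcop : (orderOf d).Coprime (orderOf (k⁻¹ * (d * k * d⁻¹))) := by
    obtain ⟨n, hn⟩ := (isPGroup_oqq q K) ⟨_, hcQ⟩
    have hn' : (k⁻¹ * (d * k * d⁻¹)) ^ q ^ n = 1 := by
      have := congrArg Subtype.val hn
      simpa using this
    have h1 : orderOf (k⁻¹ * (d * k * d⁻¹)) ∣ q ^ n := orderOf_dvd_of_pow_eq_one hn'
    have h2 : orderOf d ∣ Nat.card D := by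
      have := orderOf_dvd_natCard (⟨d, hd⟩ : ↥D)
      rwa [Subgroup.orderOf_mk] at this
    exact Nat.Coprime.coprime_dvd_left h2 (Nat.Coprime.coprime_dvd_right h1 (hDq.pow_right n))
  have hfin : IsOfFinOrder d := isOfFinOrder_of_finite d
  have hfinal := Cfsg.Agent.Helper7.conj_eq_self_of_coprime d k hfin hza hcop
  -- d k d⁻¹ = k  ⇒  k d = d k
  calc k * d = (d * k * d⁻¹) * d := by rw [hfinal]
    _ = d * k := by group

end Cfsg.Agent.Helper17.SG
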