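import Mathlib
import Cfsg.Agent.Lib.SG.SGDefs
import Cfsg.Agent.Lib.SG.SGOQNORM

/-! S3819 piece SG-PNORM (helper17 design; see plans/S3819_plan.md). Proof by helper19. -/

set_option autoImplicit false

namespace Cfsg.Agent.Helper17.SG

variable {G : Type*} [Group G]

theorem le_normalizer_oq_inf_centralizer (q : ℕ) (H P : Subgroup G) [H.Normal] (z : G)
    (hzP : z ∈ Subgroup.centralizer (P : Set G)) :
    P ≤ Subgroup.normalizer (oq q (H ⊓ Subgroup.centralizer ({z} : Set G)) : Set G) := by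
  intro g hg
  apply normalizer_le_normalizer_oq q (H ⊓ Subgroup.centralizer ({z} : Set G))
  have hgz : g * z = z * g := (Subgroup.mem_centralizer_iff.1 hzP g hg)
  have hgz' : g⁻¹ * z = z * g⁻¹ := by
    have : g⁻¹ * (g * z) * g⁻¹ = g⁻¹ * (z * g) * g⁻¹ := by rw [hgz]
    simpa [mul_assoc] using this.symm
  rw [Subgroup.mem_set_normalizer_iff]
  intro h
  simp only [SetLike.mem_coe, Subgroup.mem_inf, Subgroup.mem_centralizer_singleton_iff]
  constructor
  · rintro ⟨hH, hc⟩
    refine ⟨?_, ?_⟩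
    · exact Subgroup.Normal.conj_mem inferInstance h hH g
    · calc g * h * g⁻¹ * z = g * h * (g⁻¹ * z) := by simp only [mul_assoc]
        _ = g * h * (z * g⁻¹) := by rw [hgz']
        _ = g * (h * z) * g⁻¹ := by simp only [mul_assoc]
        _ = g * (z * h) * g⁻¹ := by rw [hc]
        _ = (g * z) * h * g⁻¹ := by simp only [mul_assoc]
        _ = (z * g) * h * g⁻¹ := by rw [hgz]
        _ = z * (g * h * g⁻¹) := by simp only [mul_assoc]
  · rintro ⟨hH, hc⟩
    refine ⟨?_, ?_⟩
    · have := Subgroup.Normal.conj_mem (inferInstance : H.Normal) _ hH g⁻¹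
      simpa [mul_assoc] using this
    · have h1 : g⁻¹ * (g * h * g⁻¹ * z) * g = g⁻¹ * (z * (g * h * g⁻¹)) * g := by rw [hc]
      have h2 : g⁻¹ * (g * h * g⁻¹ * z) * g = h * z := by
        calc g⁻¹ * (g * h * g⁻¹ * z) * g = h * (g⁻¹ * z) * g := by simp only [mul_assoc, inv_mul_cancel_left]
          _ = h * (z * g⁻¹) * g := by rw [hgz']
          _ = h * z := by simp only [mul_assoc, inv_mul_cancel, mul_one]
      have h3 : g⁻¹ * (z * (g * h * g⁻¹)) * g = z * h := by
        calc g⁻¹ * (z * (g * h * g⁻¹)) * g = (g⁻¹ * z) * g * h * (g⁻¹ * g) := by simp only [mul_assoc]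
          _ = (z * g⁻¹) * g * h * (g⁻¹ * g) := by rw [hgz']
          _ = z * h := by simp only [mul_assoc, inv_mul_cancel, mul_one]
      rw [← h2, ← h3, h1]

end Cfsg.Agent.Helper17.SG
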