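import Mathlib
import Cfsg.Agent.Lib.SG.SGDefs

/-! S3819 piece SG-SOLMAP (helper17 design; see plans/S3819_plan.md); proved by helper18:
the image of a solvable subgroup under a homomorphism is solvable. -/

set_option autoImplicit false

namespace Cfsg.Agent.Helper17.SG

variable {G : Type*} [Group G]

theorem isSolvable_map {G' : Type*} [Group G'] (f : G →* G') (K : Subgroup G)
    (hK : Group.IsSolvable ↥K) : Group.IsSolvable ↥(K.map f) := by
  have hsurj : Function.Surjective (f.subgroupMap K) := f.subgroupMap_surjective K
  exact Group.isSolvable_of_surjective hsurj

end Cfsg.Agent.Helper17.SG
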