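import Mathlib
import Cfsg.Agent.Lib.SG.SGDefs
import Cfsg.Agent.Lib.SG.SGCOPRIMEACT

/-! S3819 piece SG-SUPTOP (helper17 design; see plans/S3819_plan.md); proved by helper18:
`G = HP` with `H` a normal `p'`-group and `P` a `p`-group gives `G = [H,P] C_H(P) P`. -/

set_option autoImplicit false

namespace Cfsg.Agent.Helper17.SG

variable {G : Type*} [Group G]

theorem sup_sup_eq_top [Finite G] (p : ℕ) [Fact p.Prime] (H P : Subgroup G) [H.Normal]
    (hP : IsPGroup p P) (hH : (Nat.card H).Coprime p) (h : H ⊔ P = ⊤) :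
    ⁅H, P⁆ ⊔ (H ⊓ Subgroup.centralizer (P : Set G)) ⊔ P = ⊤ := by
  have hle : H ≤ ⁅H, P⁆ ⊔ (H ⊓ Subgroup.centralizer (P : Set G)) := by
    intro x hx
    obtain ⟨c, hc, k, hk, hxe⟩ := exists_mul_of_coprime p H P hP hH x hx
    rw [hxe]
    exact Subgroup.mul_mem _ (Subgroup.mem_sup_right hc) (Subgroup.mem_sup_left hk)
  rw [eq_top_iff, ← h]
  exact sup_le (hle.trans le_sup_left) le_sup_right

end Cfsg.Agent.Helper17.SG
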