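import Mathlib
import Cfsg.Agent.Lib.SG.SGDefs
import Cfsg.Agent.Lib.SG.SGLEOQ
import Cfsg.Agent.Lib.SG.SGOQCARD
import Cfsg.Agent.Lib.SG.SGOQLE

/-! S3819 piece SG-T1 (helper17 design; see plans/S3819_plan.md): a normal `q'`-subgroup of
`G / O_{q'}(H)` inside the image of `H` is trivial.  (helper22) -/

set_option autoImplicit false

namespace Cfsg.Agent.Helper17.SG

variable {G : Type*} [Group G]

theorem sg_t1_card_map {T T' : Type*} [Group T] [Group T'] (f : T →* T') (N : Subgroup T) :
    Nat.card ↥(f.ker ⊓ N : Subgroup T) * Nat.card ↥(N.map f) = Nat.card ↥N := by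
  have h1 := Subgroup.card_mul_index (f.domRestrict N).ker
  rw [Subgroup.index_ker, MonoidHom.domRestrict_range, MonoidHom.ker_domRestrict] at h1
  have h2 : Nat.card (f.ker.subgroupOf N) = Nat.card ↥(f.ker ⊓ N : Subgroup T) := by
    rw [← Subgroup.subgroupOf_map_subtype,
      Subgroup.card_map_of_injective (Subgroup.subtype_injective _)]
  rw [h2] at h1
  exact h1

theorem eq_bot_of_normal_coprime_quot [Finite G] (q : ℕ) (H : Subgroup G) [H.Normal]
    (A : Subgroup (G ⧸ oq q H)) [A.Normal]
    (hAH : A ≤ H.map (QuotientGroup.mk' (oq q H))) (hc : (Nat.card A).Coprime q) :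
    A = ⊥ := by
  have hsurj : Function.Surjective (QuotientGroup.mk' (oq q H)) := QuotientGroup.mk'_surjective _
  have hTn : (A.comap (QuotientGroup.mk' (oq q H))).Normal := Subgroup.Normal.comap inferInstance _
  have hNT : oq q H ≤ A.comap (QuotientGroup.mk' (oq q H)) := by
    intro n hn
    rw [Subgroup.mem_comap]
    have : (QuotientGroup.mk' (oq q H)) n = 1 := by
      rw [QuotientGroup.mk'_apply, QuotientGroup.eq_one_iff]; exact hn
    rw [this]; exact A.one_mem
  have hTH : A.comap (QuotientGroup.mk' (oq q H)) ≤ H := by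
    intro t ht
    rw [Subgroup.mem_comap] at ht
    obtain ⟨h, hh, hht⟩ := hAH ht
    have h1 : h⁻¹ * t ∈ oq q H := by
      rw [← QuotientGroup.eq]
      exact hht
    have h2 : h⁻¹ * t ∈ H := oq_le q H h1
    have : t = h * (h⁻¹ * t) := by group
    rw [this]
    exact H.mul_mem hh h2
  have hmap : (A.comap (QuotientGroup.mk' (oq q H))).map (QuotientGroup.mk' (oq q H)) = A :=
    Subgroup.map_comap_eq_self_of_surjective hsurj A
  have hcard := sg_t1_card_map (QuotientGroup.mk' (oq q H)) (A.comap (QuotientGroup.mk' (oq q H)))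
  rw [QuotientGroup.ker_mk', inf_eq_left.mpr hNT, hmap] at hcard
  have hcop : (Nat.card ↥(A.comap (QuotientGroup.mk' (oq q H)))).Coprime q := by
    rw [← hcard]
    exact Nat.Coprime.mul_left (card_oq_coprime q H) hc
  have hle : A.comap (QuotientGroup.mk' (oq q H)) ≤ oq q H :=
    le_oq q _ H hTH (by rw [Subgroup.normalizer_eq_top]; exact le_top) hcop
  rw [← hmap, eq_bot_iff]
  rintro x ⟨t, ht, rfl⟩
  rw [Subgroup.mem_bot, QuotientGroup.mk'_apply, QuotientGroup.eq_one_iff]
  exact hle ht

end Cfsg.Agent.Helper17.SG
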