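import Mathlib
import Cfsg.Agent.Lib.SG.SGDefs
import Cfsg.Agent.Lib.SG.SGT1
import Cfsg.Agent.Lib.SG.SGOQLE
import Cfsg.Agent.Lib.SG.SGOQCARD
import Cfsg.Agent.Lib.SG.SGOQNORM

/-! S3819 piece SG-T2 (helper17 design; see plans/S3819_plan.md): `O_{q'}` of the image of a normal
subgroup `K ≤ H` in `G / O_{q'}(H)` is trivial.  (helper14) -/

set_option autoImplicit false

namespace Cfsg.Agent.Helper17.SG

variable {G : Type*} [Group G]

theorem oq_map_eq_bot [Finite G] (q : ℕ) (H K : Subgroup G) [H.Normal] [K.Normal]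
    (hKH : K ≤ H) : oq q (K.map (QuotientGroup.mk' (oq q H))) = ⊥ := by
  have hsurj : Function.Surjective (QuotientGroup.mk' (oq q H)) := QuotientGroup.mk'_surjective _
  have hKn : (K.map (QuotientGroup.mk' (oq q H))).Normal :=
    Subgroup.Normal.map inferInstance _ hsurj
  have hAn : (oq q (K.map (QuotientGroup.mk' (oq q H)))).Normal := oq_normal q _
  have hAH : oq q (K.map (QuotientGroup.mk' (oq q H))) ≤ H.map (QuotientGroup.mk' (oq q H)) :=
    (oq_le q _).trans (Subgroup.map_mono hKH)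
  exact eq_bot_of_normal_coprime_quot q H _ hAH (card_oq_coprime q _)

end Cfsg.Agent.Helper17.SG
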