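import Mathlib
import Cfsg.Agent.Lib.SG.SGDefs

/-! S3819 piece SG-T3 (helper17 design; see plans/S3819_plan.md).  Proved by helper8: a `q`-element
acting by conjugation on a coset of a normal `q'`-subgroup fixes a point of it. -/

set_option autoImplicit false

namespace Cfsg.Agent.Helper17.SG

variable {G : Type*} [Group G]

theorem exists_lift_centralizer [Finite G] (q : ℕ) [Fact q.Prime] (N : Subgroup G) [N.Normal]
    (hN : (Nat.card N).Coprime q) (z : G) (hz : ∃ k : ℕ, orderOf z = q ^ k) (x : G)
    (hx : Commute (QuotientGroup.mk' N x) (QuotientGroup.mk' N z)) :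
    ∃ n ∈ N, x * n ∈ Subgroup.centralizer ({z} : Set G) := by
  classical
  have hq : q.Prime := Fact.out
  -- the acting `q`-group
  let K : Subgroup (ConjAct G) := Subgroup.zpowers (ConjAct.toConjAct z)
  have hord : orderOf (ConjAct.toConjAct z) = orderOf z :=
    orderOf_injective (ConjAct.toConjAct (G := G)).toMonoidHom
      (ConjAct.toConjAct (G := G)).injective z
  have hK : IsPGroup q K := by
    obtain ⟨k, hk⟩ := hz
    apply IsPGroup.of_card (n := k)
    rw [Nat.card_zpowers, hord, hk]
  -- elements of `K` are conjugations by powers of `z`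
  have hKz : ∀ c : K, ConjAct.ofConjAct (c : ConjAct G) ∈ Subgroup.zpowers z := by
    rintro ⟨c, hc⟩
    obtain ⟨m, rfl⟩ := Subgroup.mem_zpowers_iff.1 hc
    refine Subgroup.mem_zpowers_iff.2 ⟨m, ?_⟩
    simp
  -- hence they commute with `x` modulo `N`
  have hcomm : ∀ c : K, Commute (QuotientGroup.mk' N (ConjAct.ofConjAct (c : ConjAct G)))
      (QuotientGroup.mk' N x) := by
    intro c
    obtain ⟨m, hm⟩ := Subgroup.mem_zpowers_iff.1 (hKz c)
    rw [← hm, map_zpow]
    exact (hx.symm).zpow_left m
  -- the coset `x N` as an invariant subset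
  let S : SubMulAction K G :=
    { carrier := {y | x⁻¹ * y ∈ N}
      smul_mem' := by
        intro c y hy
        show x⁻¹ * (c • y) ∈ N
        have hy' : (QuotientGroup.mk' N x) = QuotientGroup.mk' N y := by
          exact (QuotientGroup.eq).2 hy
        apply (QuotientGroup.eq (s := N)).1
        have h1 : (c • y) = ConjAct.ofConjAct (c : ConjAct G) * y *
            (ConjAct.ofConjAct (c : ConjAct G))⁻¹ := by
          show (c : ConjAct G) • y = _
          rw [ConjAct.smul_def]
        rw [h1]
        have h2 : ((ConjAct.ofConjAct (c : ConjAct G) * y *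
            (ConjAct.ofConjAct (c : ConjAct G))⁻¹ : G) : G ⧸ N)
            = QuotientGroup.mk' N (ConjAct.ofConjAct (c : ConjAct G)) * QuotientGroup.mk' N y *
              (QuotientGroup.mk' N (ConjAct.ofConjAct (c : ConjAct G)))⁻¹ := by
          simp
        rw [h2, ← hy', (hcomm c).eq, mul_inv_cancel_right]
        rfl }
  have hSmem : ∀ y : G, y ∈ S ↔ x⁻¹ * y ∈ N := fun y => Iff.rfl
  -- its cardinality
  have hcard : Nat.card S = Nat.card N := by
    apply Nat.card_congr
    refine ⟨fun y => ⟨x⁻¹ * (y : G), (hSmem _).1 y.2⟩, fun n => ⟨x * (n : G), ?_⟩, ?_, ?_⟩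
    · rw [hSmem, inv_mul_cancel_left]
      exact n.2
    · intro y
      apply Subtype.ext
      show x * (x⁻¹ * (y : G)) = y
      rw [mul_inv_cancel_left]
    · intro n
      apply Subtype.ext
      show x⁻¹ * (x * (n : G)) = n
      rw [inv_mul_cancel_left]
  have hnd : ¬ q ∣ Nat.card S := by
    rw [hcard]
    intro hd
    have h1 : q ∣ Nat.gcd (Nat.card N) q := Nat.dvd_gcd hd dvd_rfl
    rw [hN] at h1
    exact hq.one_lt.ne' (Nat.dvd_one.1 h1)
  obtain ⟨y, hy⟩ := hK.nonempty_fixed_point_of_prime_not_dvd_card S hnd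
  refine ⟨x⁻¹ * (y : G), (hSmem _).1 y.2, ?_⟩
  rw [mul_inv_cancel_left, Subgroup.mem_centralizer_iff]
  intro w hw
  rw [Set.mem_singleton_iff] at hw
  subst hw
  have hfix := hy ⟨ConjAct.toConjAct w, Subgroup.mem_zpowers _⟩
  have h3 : (ConjAct.toConjAct w) • (y : G) = (y : G) := by
    have := congrArg (Subtype.val) hfix
    exact this
  rw [ConjAct.smul_def, ConjAct.ofConjAct_toConjAct] at h3
  -- w * y * w⁻¹ = y
  calc w * (y : G) = w * (y : G) * w⁻¹ * w := by group
    _ = (y : G) * w := by rw [h3]

end Cfsg.Agent.Helper17.SG
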