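import Mathlib
import Cfsg.Agent.Lib.SG.SGDefs
import Cfsg.Agent.Lib.SG.SGOQLE
import Cfsg.Agent.Lib.SG.SGOQCARD
import Cfsg.Agent.Lib.SG.SGLEOQ
import Cfsg.Agent.Lib.SG.SGOQNORM
import Cfsg.Agent.Lib.SG.SGOQQBASIC
import Cfsg.Agent.Lib.SG.SGOQQCENT
import Cfsg.Agent.Lib.SG.SGINFBOT
import Cfsg.Agent.Lib.SG.SGKL
import Cfsg.Agent.Lib.SG.SGKL2
import Cfsg.Agent.Lib.SG.SGP2
import Cfsg.Agent.Lib.SG.SGT1
import Cfsg.Agent.Lib.SG.SGT2
import Cfsg.Agent.Lib.SG.SGT3
import Cfsg.Agent.Lib.SG.SGT4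
import Cfsg.Agent.Lib.SG.SGORDMAP
import Cfsg.Agent.Lib.SG.SGCARDMAP
import Cfsg.Agent.Lib.SG.SGSOLMAP
import Cfsg.Agent.Lib.SG.SGCOMMNORMAL
import Cfsg.Agent.Lib.SG.SGCOPRIMEACT
import Cfsg.Agent.Lib.SG.SGSUPTOP
import Cfsg.Agent.Lib.SG.SGFIN1
import Cfsg.Agent.Lib.SG.SGPNORM

/-! S3819 assembly (helper17). -/

set_option autoImplicit false

namespace Cfsg.Agent.Helper17.SG

variable {G : Type*} [Group G]

theorem sg_main [Finite G] {p : ℕ} [Fact p.Prime] (H P : Subgroup G) [H.Normal]
    (hP : IsPGroup p P) (hH : (Nat.card H).Coprime p) (hPH : H ⊔ P = ⊤)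
    (hsol : Group.IsSolvable ↥⁅H, P⁆)
    {q : ℕ} [Fact q.Prime] (z : G) (hzP : z ∈ Subgroup.centralizer (P : Set G))
    (hz : ∃ k : ℕ, orderOf z = q ^ k) :
    (oq q (H ⊓ Subgroup.centralizer ({z} : Set G)) ⊓
        oq q (H ⊓ Subgroup.centralizer (P : Set G))) ⊔
      ⁅oq q (H ⊓ Subgroup.centralizer ({z} : Set G)), P⁆ ≤ oq q H := by
  classical
  -- notation
  set N : Subgroup G := oq q H with hN
  set π : G →* G ⧸ N := QuotientGroup.mk' N with hπ
  have hπsurj : Function.Surjective π := QuotientGroup.mk'_surjective N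
  have hker : π.ker = N := QuotientGroup.ker_mk' N
  set K : Subgroup G := ⁅H, P⁆ with hK
  have hKn : K.Normal := commutator_normal_of_sup_eq_top H P hPH
  have hKH : K ≤ H := by
    rw [hK]
    exact Subgroup.commutator_le_left H P
  set Y : Subgroup G := oq q (H ⊓ Subgroup.centralizer ({z} : Set G)) with hY
  set M : Subgroup G := oq q (H ⊓ Subgroup.centralizer (P : Set G)) with hM
  set C : Subgroup G := H ⊓ Subgroup.centralizer (P : Set G) with hC
  -- images
  set Kb : Subgroup (G ⧸ N) := K.map π with hKb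
  have hKbn : Kb.Normal := Subgroup.Normal.map hKn π hπsurj
  have hKbsol : Group.IsSolvable ↥Kb := isSolvable_map π K hsol
  have hKbO : oq q Kb = ⊥ := oq_map_eq_bot q H K hKH
  have hzb : ∃ k : ℕ, orderOf (π z) = q ^ k := orderOf_map_pow π q z hz
  have hYq : (Nat.card Y).Coprime q := card_oq_coprime q _
  have hYbq : (Nat.card (Y.map π)).Coprime q := card_map_coprime π q Y hYq
  have hYz : Y ≤ Subgroup.centralizer ({z} : Set G) :=
    (oq_le q _).trans inf_le_right
  have hYbz : Y.map π ≤ Subgroup.centralizer ({π z} : Set (G ⧸ N)) := by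
    rintro _ ⟨y, hy, rfl⟩
    rw [Subgroup.mem_centralizer_iff]
    intro w hw
    rw [Set.mem_singleton_iff] at hw
    subst hw
    have h1 := Subgroup.mem_centralizer_iff.mp (hYz hy) z (Set.mem_singleton z)
    rw [← map_mul, ← map_mul, h1]
  -- key: the image of Y centralizes O_q of the image of K
  have hkey : Y.map π ≤ Subgroup.centralizer (oqq q Kb : Set (G ⧸ N)) :=
    le_centralizer_oqq q Kb (π z) hzb (Y.map π) hYbq hYbz
      (commute_of_lift q H K hKH z hz)
  -- Part 1
  have hpart1 : ⁅Y, P⁆ ≤ N := by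
    have hW : (Y ⊓ K).map π = ⊥ := by
      apply eq_bot_of_le_centralizer_oqq q Kb hKbsol hKbO
      · exact card_map_coprime π q _
          (Nat.Coprime.coprime_dvd_left (Subgroup.card_dvd_of_le inf_le_left) hYq)
      · exact Subgroup.map_mono inf_le_right
      · exact (Subgroup.map_mono inf_le_left).trans hkey
    have hWN : Y ⊓ K ≤ N := by
      rw [← hker]
      exact (Subgroup.map_eq_bot_iff _).mp hW
    refine le_trans ?_ hWN
    apply le_inf
    · -- ⁅Y, P⁆ ≤ Y since P normalizes Y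
      have hPY : P ≤ Subgroup.normalizer (Y : Set G) :=
        le_normalizer_oq_inf_centralizer q H P z hzP
      exact Cfsg.Agent.Helper7.commutator_le_of_le_normalizer hPY
    · rw [hK]
      exact Subgroup.commutator_mono ((oq_le q _).trans inf_le_left) le_rfl
  -- Part 2
  have hpart2 : Y ⊓ M ≤ N := by
    set D : Subgroup G := Y ⊓ M with hD
    have hDq : (Nat.card D).Coprime q :=
      Nat.Coprime.coprime_dvd_left (Subgroup.card_dvd_of_le inf_le_left) hYq
    have hDbq : (Nat.card (D.map π)).Coprime q := card_map_coprime π q D hDq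
    have hDK : D.map π ≤ Subgroup.centralizer (Kb : Set (G ⧸ N)) := by
      apply le_centralizer_of_le_centralizer_oqq q Kb hKbsol hKbO (D.map π) hDbq
      exact (Subgroup.map_mono inf_le_left).trans hkey
    -- normal closure step
    have htop : K ⊔ C ⊔ P = ⊤ := sup_sup_eq_top p H P hP hH hPH
    have htopb : Kb ⊔ C.map π ⊔ P.map π = ⊤ := by
      rw [hKb, ← Subgroup.map_sup, ← Subgroup.map_sup, htop, ← MonoidHom.range_eq_map]
      exact MonoidHom.range_eq_top.mpr hπsurj
    have hMC : M ≤ C := oq_le q _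
    have hCM : C ≤ Subgroup.normalizer (M : Set G) :=
      Subgroup.le_normalizer.trans (normalizer_le_normalizer_oq q C)
    have hCMb : C.map π ≤ Subgroup.normalizer ((M.map π : Subgroup (G ⧸ N)) : Set (G ⧸ N)) := by
      rintro _ ⟨c, hc, rfl⟩
      rw [Subgroup.mem_normalizer_iff]
      intro w
      have hcn := Subgroup.mem_normalizer_iff.mp (hCM hc)
      constructor
      · rintro ⟨m, hm, rfl⟩
        exact ⟨c * m * c⁻¹, (hcn m).mp hm, by simp⟩
      · rintro ⟨m, hm, hmw⟩
        refine ⟨c⁻¹ * m * c, ?_, ?_⟩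
        · have := (hcn (c⁻¹ * m * c)).mpr (by simpa [mul_assoc] using hm)
          exact this
        · simp only [map_mul, map_inv, hmw]
          group
    have hPCb : C.map π ≤ Subgroup.centralizer ((P.map π : Subgroup (G ⧸ N)) : Set (G ⧸ N)) := by
      rintro _ ⟨c, hc, rfl⟩
      rw [Subgroup.mem_centralizer_iff]
      rintro _ ⟨x, hx, rfl⟩
      have h1 := Subgroup.mem_centralizer_iff.mp (hc.2) x hx
      rw [← map_mul, ← map_mul, h1]
    obtain ⟨L, hLn, hDL, hLM⟩ := exists_normal_le Kb (C.map π) (P.map π) (D.map π) (M.map π)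
      htopb (Subgroup.map_mono inf_le_right) (Subgroup.map_mono hMC) hCMb hPCb hDK
    have := hLn
    have hLbot : L = ⊥ := by
      apply eq_bot_of_normal_coprime_quot q H L
      · exact hLM.trans (Subgroup.map_mono (hMC.trans inf_le_left))
      · have hMq : (Nat.card (M.map π)).Coprime q :=
          card_map_coprime π q M (card_oq_coprime q _)
        exact Nat.Coprime.coprime_dvd_left (Subgroup.card_dvd_of_le hLM) hMq
    have hDbot : D.map π = ⊥ := by
      rw [eq_bot_iff, ← hLbot]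
      exact hDL
    rw [← hker]
    exact (Subgroup.map_eq_bot_iff _).mp hDbot
  exact sup_le hpart2 hpart1

end Cfsg.Agent.Helper17.SG
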