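import Mathlib
import Cfsg.Agent.Lib.SG.SGDefs
import Cfsg.Agent.Lib.SG.SGT3
import Cfsg.Agent.Lib.SG.SGOQLE
import Cfsg.Agent.Lib.SG.SGOQCARD
import Cfsg.Agent.Lib.SG.SGOQNORM
import Cfsg.Agent.Lib.SG.SGOQQBASIC
import Cfsg.Agent.Lib.SG.SGINFBOT
import Cfsg.Agent.Lib.SG.SGCARDMAP

/-! S3819 piece SG-T4 (helper17 design; see plans/S3819_plan.md): the image of
`Y = O_{q'}(C_H(z))` centralizes `C_{O_q(K̄)}(z̄)`.  (helper9) -/

set_option autoImplicit false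

namespace Cfsg.Agent.Helper17.SG

variable {G : Type*} [Group G]

theorem commute_of_lift [Finite G] (q : ℕ) [Fact q.Prime] (H K : Subgroup G) [H.Normal]
    [K.Normal] (hKH : K ≤ H) (z : G) (hz : ∃ k : ℕ, orderOf z = q ^ k) :
    ∀ x ∈ oqq q (K.map (QuotientGroup.mk' (oq q H))),
      x ∈ Subgroup.centralizer ({QuotientGroup.mk' (oq q H) z} : Set (G ⧸ oq q H)) →
      ∀ y ∈ (oq q (H ⊓ Subgroup.centralizer ({z} : Set G))).map (QuotientGroup.mk' (oq q H)),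
        x * y = y * x := by
  intro x hxQ hxz y hy
  haveI hKbn : (K.map (QuotientGroup.mk' (oq q H))).Normal :=
    Subgroup.Normal.map inferInstance _ (QuotientGroup.mk'_surjective _)
  -- lift `x` to `K`
  have hxKb : x ∈ K.map (QuotientGroup.mk' (oq q H)) := oqq_le q _ hxQ
  obtain ⟨x0, hx0K, hx0⟩ := Subgroup.mem_map.1 hxKb
  have hcomm : Commute (QuotientGroup.mk' (oq q H) x0) (QuotientGroup.mk' (oq q H) z) := by
    have h := Subgroup.mem_centralizer_iff.1 hxz _ (Set.mem_singleton _)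
    rw [hx0]
    exact h.symm
  obtain ⟨n, hnN, hx1z⟩ :=
    exists_lift_centralizer q (oq q H) (card_oq_coprime q H) z hz x0 hcomm
  have hπ : QuotientGroup.mk' (oq q H) (x0 * n) = x := by
    rw [map_mul]
    have h1 : QuotientGroup.mk' (oq q H) n = 1 := (QuotientGroup.eq_one_iff n).2 hnN
    rw [h1, mul_one, hx0]
  have hx1X : x0 * n ∈ H ⊓ Subgroup.centralizer ({z} : Set G) :=
    ⟨H.mul_mem (hKH hx0K) (oq_le q H hnN), hx1z⟩
  obtain ⟨y0, hy0Y, hy0⟩ := Subgroup.mem_map.1 hy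
  -- the commutator lies in `Y`
  have hnorm : x0 * n ∈
      Subgroup.normalizer (oq q (H ⊓ Subgroup.centralizer ({z} : Set G)) : Set G) :=
    normalizer_le_normalizer_oq q _ (Subgroup.le_normalizer hx1X)
  have hconj : (x0 * n) * y0 * (x0 * n)⁻¹ ∈ oq q (H ⊓ Subgroup.centralizer ({z} : Set G)) :=
    (Subgroup.mem_normalizer_iff.1 hnorm y0).1 hy0Y
  have hc0 : (x0 * n) * y0 * (x0 * n)⁻¹ * y0⁻¹ ∈
      oq q (H ⊓ Subgroup.centralizer ({z} : Set G)) :=
    Subgroup.mul_mem _ hconj (Subgroup.inv_mem _ hy0Y)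
  have hcA : x * y * x⁻¹ * y⁻¹ ∈
      (oq q (H ⊓ Subgroup.centralizer ({z} : Set G))).map (QuotientGroup.mk' (oq q H)) := by
    refine Subgroup.mem_map.2 ⟨_, hc0, ?_⟩
    rw [map_mul, map_mul, map_mul, map_inv, map_inv, hπ, hy0]
  have hcB : x * y * x⁻¹ * y⁻¹ ∈ oqq q (K.map (QuotientGroup.mk' (oq q H))) := by
    have h1 : y * x⁻¹ * y⁻¹ ∈ oqq q (K.map (QuotientGroup.mk' (oq q H))) :=
      (inferInstance : (oqq q (K.map (QuotientGroup.mk' (oq q H)))).Normal).conj_mem _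
        (Subgroup.inv_mem _ hxQ) _
    have h2 := Subgroup.mul_mem _ hxQ h1
    have h3 : x * (y * x⁻¹ * y⁻¹) = x * y * x⁻¹ * y⁻¹ := by group
    rw [h3] at h2
    exact h2
  have hbot := inf_eq_bot_of_coprime_of_isPGroup q
    ((oq q (H ⊓ Subgroup.centralizer ({z} : Set G))).map (QuotientGroup.mk' (oq q H)))
    (oqq q (K.map (QuotientGroup.mk' (oq q H))))
    (card_map_coprime (QuotientGroup.mk' (oq q H)) q _ (card_oq_coprime q _))
    (isPGroup_oqq q (K.map (QuotientGroup.mk' (oq q H))))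
  have h1 : x * y * x⁻¹ * y⁻¹ ∈ (⊥ : Subgroup (G ⧸ oq q H)) := by
    rw [← hbot]
    exact ⟨hcA, hcB⟩
  rw [Subgroup.mem_bot] at h1
  calc x * y = (x * y * x⁻¹ * y⁻¹) * (y * x) := by group
    _ = y * x := by rw [h1, one_mul]

end Cfsg.Agent.Helper17.SG
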